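import Mathlib.RingTheory.Flat.Localization
import Mathlib.RingTheory.LocalRing.Module
import Mathlib.RingTheory.Regular.Flat
import Mathlib.RingTheory.Regular.RegularSequence
import Mathlib.RingTheory.Ideal.AssociatedPrime.Localization
import Mathlib.RingTheory.Nakayama
import Mathlib.RingTheory.TensorProduct.Quotient

/-!
# Hironaka's flatness criterion

A finite module over a Noetherian ring is flat if it is flat modulo an ideal `J` generated by a
regular sequence in the Jacobson radical and flat at the associated primes of `B ⧸ J`.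
-/

set_option autoImplicit false
set_option linter.style.haveILetI false

universe u

open TensorProduct RingTheory.Sequence
open scoped Pointwise

namespace Groth.Agent.Lib.NormalFlat.Criterion

variable {B : Type u} [CommRing B] [IsNoetherianRing B]

/-- Associated primes specialize to associated primes modulo a regular sequence. -/
theorem exists_assPrime_ge : ∀ (rs : List B) (M : Type u) [AddCommGroup M] [Module B M]
    [Module.Finite B M] (q : Ideal B), q ∈ associatedPrimes B M →
    (∀ x ∈ rs, x ∈ (⊥ : Ideal B).jacobson) → IsWeaklyRegular M rs →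
    ∃ p ∈ associatedPrimes B (M ⧸ (Ideal.ofList rs • ⊤ : Submodule B M)), q ≤ p := by
  intro rs
  induction rs with
  | nil =>
    intro M _ _ _ q hq _ _
    have e : (M ⧸ (Ideal.ofList ([] : List B) • ⊤ : Submodule B M)) ≃ₗ[B] M :=
      Submodule.quotEquivOfEqBot _ (by simp)
    exact ⟨q, by rw [LinearEquiv.AssociatedPrimes.eq e]; exact hq, le_rfl⟩
  | cons f rs ih =>
    intro M _ _ _ q hq hjac hreg
    obtain ⟨hf, hreg'⟩ := (isWeaklyRegular_cons_iff M f rs).1 hreg
    obtain ⟨hqp, x, hx⟩ := (isAssociatedPrime_iff.1 hq : q.IsPrime ∧ _)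
    let K : Submodule B M :=
      { carrier := {y | ∀ c ∈ q, c • y = 0}
        add_mem' := fun {a b} ha hb c hc => by rw [smul_add, ha c hc, hb c hc, add_zero]
        zero_mem' := fun c _ => smul_zero c
        smul_mem' := fun a y hy c hc => by rw [smul_comm, hy c hc, smul_zero] }
    have hxK : x ∈ K := fun c hc => by
      rw [hx, Submodule.mem_colon_singleton, Submodule.mem_bot] at hc
      exact hc
    have hx0 : x ≠ 0 := fun h => hqp.ne_top (by
      rw [hx, h, Submodule.colon_eq_top_iff_subset]
      simp)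
    have hK : ¬ K ≤ f • (⊤ : Submodule B M) := by
      intro hle
      have hKf : K ≤ Ideal.span {f} • K := by
        intro y hy
        obtain ⟨z, -, rfl⟩ := hle hy
        refine Submodule.smul_mem_smul (Ideal.mem_span_singleton_self f) fun c hc => ?_
        apply hf
        show f • c • z = f • 0
        rw [smul_comm, smul_zero]
        exact hy c hc
      have hKbot := Submodule.eq_bot_of_le_smul_of_le_jacobson_bot _ _ (IsNoetherian.noetherian K) hKf
        ((Ideal.span_singleton_le_iff_mem _).2 (hjac f List.mem_cons_self))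
      exact hx0 ((Submodule.mem_bot B).1 (hKbot ▸ hxK))
    obtain ⟨y, hy, hyf⟩ := SetLike.not_le_iff_exists.1 hK
    have hy0 : (Submodule.Quotient.mk y : QuotSMulTop f M) ≠ 0 :=
      fun h => hyf ((Submodule.Quotient.mk_eq_zero _).1 h)
    obtain ⟨p₁, hp₁, hle⟩ := exists_le_isAssociatedPrime_of_isNoetherianRing B _ hy0
    have hq₁ : q ≤ p₁ := fun c hc => hle (by
      rw [Submodule.mem_colon_singleton, Submodule.mem_bot, ← Submodule.Quotient.mk_smul, hy c hc,
        Submodule.Quotient.mk_zero])
    obtain ⟨p, hp, hpp⟩ := ih (QuotSMulTop f M) p₁ hp₁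
      (fun a ha => hjac a (List.mem_cons_of_mem f ha)) hreg'
    refine ⟨p, ?_, hq₁.trans hpp⟩
    rwa [LinearEquiv.AssociatedPrimes.eq (Submodule.quotOfListConsSMulTopEquivQuotSMulTopInner M f rs)]

/-- The criterion over a local ring. -/
theorem flat_of_local [IsLocalRing B] (rs : List B) (hrs : ∀ x ∈ rs, x ∈ IsLocalRing.maximalIdeal B)
    (hreg : IsWeaklyRegular B rs) (J : Ideal B) (hJ : J = Ideal.ofList rs)
    (N : Type u) [AddCommGroup N] [Module B N] [Module.Finite B N]
    [Module.Flat (B ⧸ J) ((B ⧸ J) ⊗[B] N)]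
    (hp : ∀ (p : Ideal B) [p.IsPrime], p ∈ associatedPrimes B (B ⧸ J) →
      Module.Flat (Localization.AtPrime p) (Localization.AtPrime p ⊗[B] N)) :
    Module.Flat B N := by
  classical
  have hJm : J ≤ IsLocalRing.maximalIdeal B := hJ ▸ Ideal.span_le.2 hrs
  haveI : Nontrivial (B ⧸ J) := Ideal.Quotient.nontrivial_iff.2 (ne_top_of_le_ne_top Ideal.IsPrime.ne_top' hJm)
  haveI : IsLocalRing (B ⧸ J) := IsLocalRing.of_surjective' (Ideal.Quotient.mk J) Ideal.Quotient.mk_surjective
  haveI : IsNoetherianRing (B ⧸ J) := isNoetherianRing_of_surjective B _ (Ideal.Quotient.mk J) Ideal.Quotient.mk_surjective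
  haveI : Module.FinitePresentation (B ⧸ J) ((B ⧸ J) ⊗[B] N) := Module.finitePresentation_of_finite _ _
  haveI : Module.Free (B ⧸ J) ((B ⧸ J) ⊗[B] N) := Module.free_of_flat_of_isLocalRing
  let b := Module.Free.chooseBasis (B ⧸ J) ((B ⧸ J) ⊗[B] N)
  let ι := Module.Free.ChooseBasisIndex (B ⧸ J) ((B ⧸ J) ⊗[B] N)
  have hsurj : Function.Surjective (TensorProduct.mk B (B ⧸ J) N 1) :=
    TensorProduct.mk_surjective B N (B ⧸ J) Ideal.Quotient.mk_surjective
  choose v hv using fun i => hsurj (b i)
  let ψ : (ι → B) →ₗ[B] N := Fintype.linearCombination B v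
  let π := TensorProduct.mk B (B ⧸ J) N 1
  have hπψ : ∀ x : ι → B, π (ψ x) = ∑ i, Ideal.Quotient.mk J (x i) • b i := fun x => by
    simp only [ψ, Fintype.linearCombination_apply, map_sum, map_smul]
    refine Finset.sum_congr rfl fun i _ => ?_
    rw [show π (v i) = b i from hv i, ← Ideal.Quotient.algebraMap_eq, algebraMap_smul]
  have hψ : Function.Surjective ψ := by
    rw [← LinearMap.range_eq_top, eq_top_iff]
    refine Submodule.le_of_le_smul_of_le_jacobson_bot (I := J) Module.Finite.fg_top
      (hJm.trans (IsLocalRing.maximalIdeal_le_jacobson _)) fun n _ => ?_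
    choose c hc using fun i => Ideal.Quotient.mk_surjective (b.repr (π n) i)
    have h0 : π (n - ψ c) = 0 := by
      rw [map_sub, hπψ, sub_eq_zero]
      simp only [hc]
      exact (b.sum_repr (π n)).symm
    have hmem : n - ψ c ∈ (J • ⊤ : Submodule B N) := by
      have h := congrArg (TensorProduct.quotTensorEquivQuotSMul N J) h0
      rw [map_zero] at h
      have h' := (TensorProduct.quotTensorEquivQuotSMul_mk_tmul J 1 (n - ψ c)).symm.trans h
      rw [one_smul] at h'
      exact (Submodule.Quotient.mk_eq_zero _).1 h'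
    exact Submodule.mem_sup.2 ⟨ψ c, ⟨c, rfl⟩, n - ψ c, hmem, add_sub_cancel _ _⟩
  have hker : ∀ x, ψ x = 0 → ∀ i, x i ∈ J := fun x hx i => by
    have h := hπψ x
    rw [hx, map_zero] at h
    exact Ideal.Quotient.eq_zero_iff_mem.1 (Fintype.linearIndependent_iff.1 b.linearIndependent _ h.symm i)
  suffices hinj : Function.Injective ψ from
    Module.Flat.of_linearEquiv (LinearEquiv.ofBijective ψ ⟨hinj, hψ⟩).symm
  rw [← LinearMap.ker_eq_bot, LinearMap.ker_eq_bot']
  intro x hx
  by_contra hx0
  obtain ⟨i, hi⟩ : ∃ i, x i ≠ 0 := Function.ne_iff.1 hx0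
  obtain ⟨q, hq, hqle⟩ := exists_le_isAssociatedPrime_of_isNoetherianRing B (x i) hi
  obtain ⟨p, hp', hqp⟩ := exists_assPrime_ge rs B q hq
    (fun a ha => IsLocalRing.maximalIdeal_le_jacobson _ (hrs a ha)) hreg
  have hp'' : p ∈ associatedPrimes B (B ⧸ J) := by
    rwa [LinearEquiv.AssociatedPrimes.eq (Submodule.quotEquivOfEq (Ideal.ofList rs • ⊤ : Submodule B B) J
      (by rw [hJ, smul_eq_mul, Ideal.mul_top]))] at hp'
  haveI : p.IsPrime := hp''.1
  let C := Localization.AtPrime p
  haveI := hp p hp''
  let g : C ⊗[B] (ι → B) →ₗ[C] C ⊗[B] N := ψ.baseChange C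
  have hg : Function.Surjective g := LinearMap.lTensor_surjective C hψ
  haveI : Module.Projective C (C ⊗[B] N) := by
    haveI : IsNoetherianRing C := IsLocalization.isNoetherianRing p.primeCompl C ‹_›
    haveI : Module.FinitePresentation C (C ⊗[B] N) := Module.finitePresentation_of_finite _ _
    exact Module.Flat.projective_of_finitePresentation
  obtain ⟨σ, hσ⟩ := Module.projective_lifting_property g LinearMap.id hg
  let r : C ⊗[B] (ι → B) →ₗ[C] C ⊗[B] (ι → B) := LinearMap.id - σ ∘ₗ g
  have hr : ∀ z, r z ∈ LinearMap.ker g := fun z => by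
    show g (z - σ (g z)) = 0
    rw [map_sub, show g (σ (g z)) = g z from LinearMap.congr_fun hσ (g z), sub_self]
  let JC := J.map (algebraMap B C)
  have hle : LinearMap.ker g ≤ JC • LinearMap.ker g := by
    intro z hz
    have hzex : z ∈ LinearMap.range ((LinearMap.ker ψ).subtype.lTensor C) :=
      ((lTensor_exact C (LinearMap.exact_subtype_ker_map ψ) hψ) z).1 hz
    have h1 : z ∈ JC • (⊤ : Submodule C (C ⊗[B] (ι → B))) := by
      obtain ⟨w, rfl⟩ := hzex
      clear hz
      induction w using TensorProduct.induction_on with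
      | zero => rw [map_zero]; exact zero_mem _
      | tmul c k =>
        rw [LinearMap.lTensor_tmul]
        have hk : (k : ι → B) = ∑ j, (k : ι → B) j • (Pi.single j 1 : ι → B) := by
          simpa using (pi_eq_sum_univ' (k : ι → B))
        rw [Submodule.subtype_apply, hk, tmul_sum]
        refine Submodule.sum_mem _ fun j _ => ?_
        rw [TensorProduct.tmul_smul, ← algebraMap_smul C]
        exact Submodule.smul_mem_smul (Ideal.mem_map_of_mem _ (hker k k.2 j)) Submodule.mem_top
      | add a b ha hb => rw [map_add]; exact add_mem ha hb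
    have h2 : r z = z := by
      show z - σ (g z) = z
      rw [LinearMap.mem_ker.1 hz, map_zero, sub_zero]
    rw [← h2]
    have h3 : r z ∈ (JC • (⊤ : Submodule C (C ⊗[B] (ι → B)))).map r := Submodule.mem_map_of_mem h1
    rw [Submodule.map_smul'', Submodule.map_top] at h3
    exact Submodule.smul_mono (le_refl JC) (show LinearMap.range r ≤ LinearMap.ker g from LinearMap.range_le_iff_comap.2 (eq_top_iff.2 fun z _ => hr z)) h3
  have hJp : J ≤ p := by
    obtain ⟨_, y, hy⟩ := isAssociatedPrime_iff.1 hp''
    intro a ha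
    rw [hy, Submodule.mem_colon_singleton, Submodule.mem_bot]
    obtain ⟨y, rfl⟩ := Ideal.Quotient.mk_surjective y
    exact Ideal.Quotient.eq_zero_iff_mem.2 (J.mul_mem_right y ha)
  haveI : IsNoetherianRing C := IsLocalization.isNoetherianRing p.primeCompl C ‹_›
  have hbot : LinearMap.ker g = ⊥ := by
    refine Submodule.eq_bot_of_le_smul_of_le_jacobson_bot _ _ (IsNoetherian.noetherian _) hle ?_
    refine le_trans ?_ (IsLocalRing.maximalIdeal_le_jacobson _)
    exact (Ideal.map_mono hJp).trans (le_of_eq Localization.AtPrime.map_eq_maximalIdeal)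
  have hx1 : (1 : C) ⊗ₜ[B] x = 0 := by
    rw [← Submodule.mem_bot C, ← hbot, LinearMap.mem_ker]
    show g ((1 : C) ⊗ₜ[B] x) = 0
    rw [LinearMap.baseChange_tmul, hx, tmul_zero]
  obtain ⟨⟨s, hs⟩, hsx⟩ := (IsLocalizedModule.eq_zero_iff p.primeCompl (TensorProduct.mk B C (ι → B) 1)).1 hx1
  refine hs (hqp (hqle ?_))
  rw [Submodule.mem_colon_singleton, Submodule.mem_bot]
  exact congrFun hsx i

/-- Hironaka's flatness criterion. -/
theorem flat_of_quotient (rs : List B) (hrs : ∀ x ∈ rs, x ∈ (⊥ : Ideal B).jacobson)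
    (hreg : IsWeaklyRegular B rs) (J : Ideal B) (hJ : J = Ideal.ofList rs)
    (N : Type u) [AddCommGroup N] [Module B N] [Module.Finite B N]
    [Module.Flat (B ⧸ J) ((B ⧸ J) ⊗[B] N)]
    (hp : ∀ (p : Ideal B) [p.IsPrime], p ∈ associatedPrimes B (B ⧸ J) →
      Module.Flat (Localization.AtPrime p) (Localization.AtPrime p ⊗[B] N)) :
    Module.Flat B N := by
  refine Module.flat_of_isLocalized_maximal (R := B) B N (fun m _ => Localization.AtPrime m ⊗[B] N)
    (fun m _ => TensorProduct.mk B (Localization.AtPrime m) N 1) fun m hm => ?_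
  let B' := Localization.AtPrime m
  let rs' := rs.map (algebraMap B B')
  let J' := J.map (algebraMap B B')
  haveI : IsNoetherianRing B' := IsLocalization.isNoetherianRing m.primeCompl B' ‹_›
  haveI : Module.Flat B B' := IsLocalization.flat B' m.primeCompl
  letI : Algebra (B ⧸ J) (B' ⧸ J') := (Ideal.quotientMap J' (algebraMap B B') Ideal.le_comap_map).toAlgebra
  haveI : IsScalarTower B (B ⧸ J) (B' ⧸ J') := IsScalarTower.of_algebraMap_eq fun _ => rfl
  haveI : Module.Flat (B' ⧸ J') ((B' ⧸ J') ⊗[B'] (B' ⊗[B] N)) :=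
    Module.Flat.of_linearEquiv ((TensorProduct.AlgebraTensorModule.cancelBaseChange B B' (B' ⧸ J') (B' ⧸ J') N).trans
      (TensorProduct.AlgebraTensorModule.cancelBaseChange B (B ⧸ J) (B' ⧸ J') (B' ⧸ J') N).symm)
  haveI : Module.Flat B' (B' ⊗[B] N) := by
    refine flat_of_local rs' ?_ (hreg.of_flat) J' (by rw [← Ideal.map_ofList, ← hJ]) (B' ⊗[B] N) ?_
    · intro a ha
      obtain ⟨a, har, rfl⟩ := List.mem_map.1 ha
      refine (IsLocalization.AtPrime.to_map_mem_maximal_iff B' m a).2 ?_
      exact (Ideal.mem_sInf.1 (hrs a har)) ⟨bot_le, hm⟩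
    · intro p' _ hp'
      let p := p'.comap (algebraMap B B')
      have hpA : p ∈ associatedPrimes B (B ⧸ J) := by
        have e := (Algebra.TensorProduct.quotIdealMapEquivTensorQuot B' J).toLinearEquiv
        rw [LinearEquiv.AssociatedPrimes.eq e] at hp'
        exact Module.associatedPrimes.comap_mem_associatedPrimes_of_mem_associatedPrimes_of_isLocalizedModule_of_fg
          m.primeCompl (TensorProduct.mk B B' (B ⧸ J) 1) p' hp' (IsNoetherian.noetherian _)
      haveI := hp p hpA
      let C := Localization.AtPrime p'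
      haveI : IsLocalization.AtPrime C p :=
        IsLocalization.isLocalization_isLocalization_atPrime_isLocalization m.primeCompl C p'
      let e : Localization.AtPrime p ≃ₐ[B] C := IsLocalization.algEquiv p.primeCompl _ _
      letI : Algebra (Localization.AtPrime p) C := e.toAlgHom.toRingHom.toAlgebra
      haveI : IsScalarTower B (Localization.AtPrime p) C := IsScalarTower.of_algebraMap_eq fun x => (e.commutes x).symm
      exact Module.Flat.of_linearEquiv ((TensorProduct.AlgebraTensorModule.cancelBaseChange B B' C C N).trans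
        (TensorProduct.AlgebraTensorModule.cancelBaseChange B (Localization.AtPrime p) C C N).symm)
  exact Module.Flat.trans B B' _

end Groth.Agent.Lib.NormalFlat.Criterion
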